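import Mathlib
import Groth.Prelude.Def_ArtFun
import Groth.Prelude.Def_ArtFun3
import Groth.Prelude.Def_ArtFun5
import Groth.Agent.ArtFunLib.Basic

/-! Contracting the coefficients of a polynomial with a functional. -/

set_option autoImplicit false

noncomputable section

universe u

open CategoryTheory ArtFun ArtFun.Art IsLocalRing MvPolynomial

namespace Groth.Agent.ObsAffLib

variable {k : Type u} [Field k] {B A : Art k k} {q : B ⟶ A} {n : ℕ}

/-- Polynomials with coefficients contracted along a functional. -/
def gam (L : Module.Dual k B) (z : MvPolynomial (Fin n) B) : MvPolynomial (Fin n) k :=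
  ∑ d ∈ z.support, monomial d (L (coeff d z))

theorem coeff_gam (L : Module.Dual k B) (z : MvPolynomial (Fin n) B) (d : Fin n →₀ ℕ) :
    coeff d (gam L z) = L (coeff d z) := by
  classical
  rw [gam, coeff_sum]
  simp only [coeff_monomial]
  rw [Finset.sum_ite_eq']
  split
  · rfl
  · rw [notMem_support_iff.mp ‹_›, map_zero]

theorem gam_zero (L : Module.Dual k B) : gam L (0 : MvPolynomial (Fin n) B) = 0 := by
  ext d; simp [coeff_gam]

theorem gam_add (L : Module.Dual k B) (z z' : MvPolynomial (Fin n) B) : gam L (z + z') = gam L z + gam L z' := by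
  ext d; simp [coeff_gam]

theorem gam_sub (L : Module.Dual k B) (z z' : MvPolynomial (Fin n) B) : gam L (z - z') = gam L z - gam L z' :=
  eq_sub_of_add_eq (by rw [← gam_add, sub_add_cancel])

theorem add_gam (L L' : Module.Dual k B) (z : MvPolynomial (Fin n) B) : gam (L + L') z = gam L z + gam L' z := by
  ext d; simp [coeff_gam]

theorem smul_gam (c : k) (L : Module.Dual k B) (z : MvPolynomial (Fin n) B) :
    gam (c • L) z = C c * gam L z := by
  ext d; simp [coeff_gam]

theorem gam_C_mul (hq : IsSemismallExt q) (L : Module.Dual k B) {j : B} (hj : q j = 0)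
    (z : MvPolynomial (Fin n) B) : gam L (C j * z) = C (L j) * MvPolynomial.map (B.res : B →+* k) z := by
  ext d
  rw [coeff_gam, coeff_C_mul, coeff_C_mul, coeff_map]
  have e : j * coeff d z = B.res (coeff d z) • j := by
    rw [mul_comm, Algebra.smul_def]
    refine ArtFunLib.exists_lift_res (A := A) (f := q) B _ j _ (fun m hm => ?_) (by simp)
    have : m * j ∈ maximalIdeal B * RingHom.ker q.toAlgHom := Ideal.mul_mem_mul hm hj
    rwa [hq.2] at this
  rw [e, map_smul, smul_eq_mul, mul_comm]
  rfl

/-- Polynomials with coefficients in the kernel. -/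
def kerPoly (q : B ⟶ A) (n : ℕ) : Ideal (MvPolynomial (Fin n) B) :=
  (RingHom.ker q.toAlgHom).map (C : B →+* MvPolynomial (Fin n) B)

theorem mem_kerPoly_iff {z : MvPolynomial (Fin n) B} :
    z ∈ kerPoly q n ↔ MvPolynomial.map q.toAlgHom.toRingHom z = 0 := by
  rw [kerPoly, ← RingHom.mem_ker, MvPolynomial.ker_map]
  rfl

theorem gam_mul (hq : IsSemismallExt q) (L : Module.Dual k B) {z : MvPolynomial (Fin n) B} (hz : z ∈ kerPoly q n)
    (y : MvPolynomial (Fin n) B) :
    gam L (y * z) = MvPolynomial.map (B.res : B →+* k) y * gam L z := by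
  induction hz using Submodule.span_induction generalizing y with
  | mem z hz =>
    obtain ⟨j, hj, rfl⟩ := hz
    have h1 := gam_C_mul hq L (n := n) hj y
    have h2 := gam_C_mul hq L (n := n) hj 1
    rw [mul_one, map_one, mul_one] at h2
    rw [mul_comm, h1, h2, mul_comm]
  | zero => rw [mul_zero, gam_zero, mul_zero]
  | add a b _ _ ha hb => rw [mul_add, gam_add, gam_add, ha, hb, mul_add]
  | smul r a _ ha => rw [smul_eq_mul, ← mul_assoc, ha, ha r, map_mul, mul_assoc]

theorem mul_eq_zero_of_kerPoly (hq : IsSemismallExt q) {z : MvPolynomial (Fin n) B} (hz : z ∈ kerPoly q n)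
    {a : B} (ha : a ∈ maximalIdeal B) : C a * z = 0 := by
  induction hz using Submodule.span_induction with
  | mem z hz =>
    obtain ⟨j, hj, rfl⟩ := hz
    have : a * j ∈ maximalIdeal B * RingHom.ker q.toAlgHom := Ideal.mul_mem_mul ha hj
    rw [hq.2] at this
    rw [← map_mul, (Ideal.mem_bot.mp this), map_zero]
  | zero => rw [mul_zero]
  | add a b _ _ ha hb => rw [mul_add, ha, hb, add_zero]
  | smul r z _ hz => rw [smul_eq_mul, mul_left_comm, hz, mul_zero]

end Groth.Agent.ObsAffLib
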