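import Groth.Agent.ObsBoundLib.Dim

/-! Dimension bounds for hulls. -/

set_option autoImplicit false
set_option backward.isDefEq.respectTransparency false
set_option backward.isDefEq.respectTransparency.types false
set_option linter.style.haveILetI false

universe u v w

open CategoryTheory ArtFun ArtFun.Art IsLocalRing

noncomputable section

namespace Groth.Agent.ObsAffLib

open ArtFunLib ObsBoundLib

variable {k : Type u} [Field k] {F : Art k k ⥤ Type v} (R : CRing k k) (ξ : Family R.carrier R.res F)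

theorem finrank_cotangent_eq_of_bijective (hξ : Function.Bijective (ξ.app (dual k k))) [TangentStr F] :
    Module.finrank (ResidueField R.carrier) (CotangentSpace R.carrier) = Module.finrank k (TangentSpace F) := by
  obtain ⟨T'⟩ := nonempty_tangentStr (hR_h0 R.res) (hR_heps R.res)
  letI := T'
  obtain ⟨f, hf⟩ := Mor.exists_tangent_linear (hR_h0 R.res) (hR_heps R.res) (Mor.ofFamily ξ)
  have hbij : Function.Bijective f := by
    have hf' : (f : _ → _) = fun φ => TangentSpace.mk (ξ.app (dual k k) φ) := funext hf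
    rw [hf']
    exact hξ
  rw [← HilbPointLib.finrank_tangent R.res, (LinearEquiv.ofBijective f hbij).finrank_eq]

theorem smoothFunctor_hR_of_dim_eq
    (h : ringKrullDim R.carrier = (Module.finrank (ResidueField R.carrier) (CotangentSpace R.carrier) : WithBot ℕ∞)) :
    IsSmoothFunctor (hR R.carrier R.res) := by
  classical
  obtain ⟨d, S, X, π, hres, hs, hker, hX, hfree⟩ := exists_presentation Function.surjective_id R
  rw [linIdeal_eq] at hker
  haveI hreg := RegPointLib.isRegularLocalRing_of_isSmoothFunctor S.res (isSmoothFunctor_of_free S X hX hfree)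
  have hdim : ringKrullDim S.carrier = (Module.finrank (ResidueField R.carrier) (CotangentSpace R.carrier) : WithBot ℕ∞) := by
    rw [RegPointLib.ringKrullDim_eq_finrank, ← spanFinrank_maximalIdeal_eq_finrank_cotangentSpace,
      ← spanFinrank_maximalIdeal_eq_finrank_cotangentSpace, spanFinrank_map_maximal π hs hker]
  haveI : IsDomain S.carrier := RegLocal.isDomain_aux _ S.carrier hdim
  have hinj : Function.Injective π := (injective_iff_map_eq_zero π).2 fun x hx => by
    by_contra hne
    have h1 := ringKrullDim_quotient_succ_le_of_nonZeroDivisor (mem_nonZeroDivisors_of_ne_zero hne)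
    have h2 : ringKrullDim R.carrier ≤ ringKrullDim (S.carrier ⧸ Ideal.span {x}) :=
      ringKrullDim_le_of_surjective (Ideal.Quotient.lift (Ideal.span {x}) π.toRingHom (fun a ha => by
        obtain ⟨c, rfl⟩ := Ideal.mem_span_singleton'.1 ha
        show π (c * x) = 0
        rw [map_mul, hx, mul_zero])) (fun r => by
        obtain ⟨a, rfl⟩ := hs r
        exact ⟨Ideal.Quotient.mk _ a, rfl⟩)
    have h3 := (add_le_add h2 (le_refl (1 : WithBot ℕ∞))).trans h1
    rw [h, hdim] at h3
    have h4 : Module.finrank (ResidueField R.carrier) (CotangentSpace R.carrier) + 1 ≤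
        Module.finrank (ResidueField R.carrier) (CotangentSpace R.carrier) := by exact_mod_cast h3
    omega
  intro B A μ hμ φ
  obtain ⟨ψ, hψ⟩ := isSmoothFunctor_of_free S X hX hfree μ hμ
    (⟨(φ : HomSet R.carrier R.res A).1.comp π, by rw [← AlgHom.comp_assoc, φ.2, hres]⟩ : HomSet S.carrier S.res A)
  let e := AlgEquiv.ofBijective π ⟨hinj, hs⟩
  refine ⟨⟨(ψ : HomSet S.carrier S.res B).1.comp e.symm.toAlgHom, AlgHom.ext fun r => ?_⟩, HomSet.ext' fun r => ?_⟩
  · obtain ⟨x, rfl⟩ := hs r
    show B.res (ψ.1 (e.symm (e x))) = R.res (π x)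
    rw [e.symm_apply_apply, res_homSet]
    exact congrArg (fun f : S.carrier →ₐ[k] k => f x) hres.symm
  · obtain ⟨x, rfl⟩ := hs r
    show μ (ψ.1 (e.symm (e x))) = φ.1 (π x)
    rw [e.symm_apply_apply]
    exact congrArg (fun χ : HomSet S.carrier S.res A => χ.1 x) hψ

theorem surjective_app (h0 : H0 F) (hξ : IsVersal ξ) (A : Art k k) : Function.Surjective (ξ.app A) := by
  intro y
  obtain ⟨φ₀⟩ : Nonempty (HomSet R.carrier R.res (Art.base k k)) := (hR_h0 R.res).1
  obtain ⟨ψ, -, hψ⟩ := hξ (toBase A) A.res_surjective φ₀ y (@Subsingleton.elim _ h0.2 _ _)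
  exact ⟨ψ, hψ⟩

/-- Bounds for the dimension of a hull of a functor with finite dimensional tangent space. -/
theorem hull_bounds (h0 : H0 F) (heps : Heps F) (hξ : IsMiniversal ξ) [T : TangentStr F] :
    ringKrullDim R.carrier ≤ ((Module.finrank k (TangentSpace F) : ℕ∞) : WithBot ℕ∞) ∧
      (∀ (V : Type w) [AddCommGroup V] [Module k V] [Module.Finite k V], HasObs F V →
        ((Module.finrank k (TangentSpace F) : ℕ∞) : WithBot ℕ∞) ≤
          ringKrullDim R.carrier + ((Module.finrank k V : ℕ∞) : WithBot ℕ∞)) ∧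
      (ringKrullDim R.carrier = ((Module.finrank k (TangentSpace F) : ℕ∞) : WithBot ℕ∞) ↔ IsSmoothFunctor F) := by
  have hd := finrank_cotangent_eq_of_bijective R ξ hξ.2
  rw [← hd]
  refine ⟨ringKrullDim_le_finrank_cotangent R, fun V _ _ _ hob => finrank_cotangent_le R ξ V hξ.1 hob,
    fun h B A μ hμ x => ?_, fun h => ?_⟩
  · obtain ⟨φ, rfl⟩ := surjective_app R ξ h0 hξ.1 A x
    obtain ⟨ψ, hψ⟩ := smoothFunctor_hR_of_dim_eq R h μ hμ φ
    exact ⟨ξ.app B ψ, (ξ.natural μ ψ).symm.trans (congrArg (ξ.app A) hψ)⟩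
  · have hR' : IsSmoothFunctor (hR R.carrier R.res) := fun B A μ hμ φ => by
      obtain ⟨y, hy⟩ := h μ hμ (ξ.app A φ)
      obtain ⟨ψ, hψ, -⟩ := hξ.1 μ hμ φ y hy
      exact ⟨ψ, hψ⟩
    haveI := RegPointLib.isRegularLocalRing_of_isSmoothFunctor R.res hR'
    exact RegPointLib.ringKrullDim_eq_finrank

end Groth.Agent.ObsAffLib
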