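import Mathlib
import Groth.Agent.DefSchLib.SmoothObs
import Groth.Agent.CotTLib.Basic

/-! Functions on relations of the equations of a presentation as classes in `T²`. -/

set_option autoImplicit false

noncomputable section

universe u

open CategoryTheory AlgebraicGeometry CotT Groth.Agent.DefSchLib Groth.Agent.CotTLib TensorProduct

namespace Groth.Agent.ObsAffLib

variable {k : Type u} [Field k] {B₀ : Type u} [CommRing B₀] [Algebra k B₀] {ι σ : Type u}
variable (P : Algebra.Presentation k B₀ ι σ) {n m : ℕ} (eι : ι ≃ Fin n) (eσ : σ ≃ Fin m)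

noncomputable def pi0 : MvPolynomial (Fin n) k →ₐ[k] B₀ := MvPolynomial.aeval (P.val ∘ eι.symm)

noncomputable def gens : Fin m → MvPolynomial (Fin n) k :=
  fun i => MvPolynomial.renameEquiv k eι (P.relation (eσ.symm i))

theorem pi0_rename (x : MvPolynomial ι k) :
    pi0 P eι (MvPolynomial.renameEquiv k eι x) = MvPolynomial.aeval P.val x := by
  simp [pi0, MvPolynomial.aeval_rename, Function.comp_assoc]

theorem span_gens : Ideal.span (Set.range (gens P eι eσ)) = RingHom.ker (pi0 P eι) := by
  have h1 : Set.range (gens P eι eσ) = MvPolynomial.renameEquiv k eι '' Set.range P.relation := by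
    rw [← Set.range_comp]
    exact eσ.symm.surjective.range_comp (fun s => MvPolynomial.renameEquiv k eι (P.relation s))
  rw [h1, ← Ideal.map_span, P.span_range_relation_eq_ker]
  ext x
  obtain ⟨y, rfl⟩ := (MvPolynomial.renameEquiv k eι).surjective x
  rw [RingHom.mem_ker, pi0_rename]
  constructor
  · intro h
    obtain ⟨z, hz, hzy⟩ := (Ideal.mem_map_iff_of_surjective _ (MvPolynomial.renameEquiv k eι).surjective).1 h
    obtain rfl := (MvPolynomial.renameEquiv k eι).injective hzy
    rw [Algebra.Generators.ker_eq_ker_aeval_val] at hz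
    exact hz
  · intro h
    refine Ideal.mem_map_of_mem _ ?_
    rw [Algebra.Generators.ker_eq_ker_aeval_val]
    exact h

theorem pi0_surjective : Function.Surjective (pi0 P eι) := fun b => by
  obtain ⟨x, hx⟩ := P.aeval_val_surjective b
  exact ⟨MvPolynomial.renameEquiv k eι x, by rw [pi0_rename]; exact hx⟩

/-- Transport of coefficient families. -/
noncomputable def back : relMod P ≃+ (Fin m →₀ MvPolynomial (Fin n) k) :=
  (Finsupp.mapRange.addEquiv (MvPolynomial.renameEquiv k eι).toRingEquiv.toAddEquiv).trans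
    (Finsupp.domCongr eσ)

theorem back_apply (x : relMod P) (i : Fin m) :
    back P eι eσ x i = MvPolynomial.renameEquiv k eι (x (eσ.symm i)) := rfl

theorem back_smul (r : P.toExtension.Ring) (x : relMod P) :
    back P eι eσ (r • x) = MvPolynomial.renameEquiv k eι r • back P eι eσ x := by
  ext1 i
  rw [Finsupp.smul_apply, back_apply, back_apply, Finsupp.smul_apply, smul_eq_mul, smul_eq_mul]
  exact map_mul (MvPolynomial.renameEquiv k eι) r (x (eσ.symm i))

theorem lc_back (x : relMod P) :
    Finsupp.linearCombination _ (gens P eι eσ) (back P eι eσ x)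
      = MvPolynomial.renameEquiv k eι (jmap P x) := by
  induction x using Finsupp.induction_linear with
  | zero => rw [map_zero, map_zero, map_zero]; exact (map_zero (MvPolynomial.renameEquiv k eι)).symm
  | add x y hx hy => rw [map_add, map_add, map_add, hx, hy]; exact (map_add _ _ _).symm
  | single s r =>
    rw [jmap_single]
    refine Eq.trans ?_ (map_mul (MvPolynomial.renameEquiv k eι) r (rel P s)).symm
    rw [show back P eι eσ (Finsupp.single s r) = Finsupp.single (eσ s) (MvPolynomial.renameEquiv k eι r) by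
      ext1 i
      rw [back_apply]
      by_cases h : eσ s = i
      · subst h
        rw [Equiv.symm_apply_apply, Finsupp.single_eq_same, Finsupp.single_eq_same]
      · rw [Finsupp.single_eq_of_ne' h, Finsupp.single_eq_of_ne' (fun e => h (by rw [e, Equiv.apply_symm_apply]))]
        exact map_zero (MvPolynomial.renameEquiv k eι)]
    rw [Finsupp.linearCombination_single, smul_eq_mul, gens, Equiv.symm_apply_apply]
    rfl

theorem aeval_eq (r : P.toExtension.Ring) :
    pi0 P eι (MvPolynomial.renameEquiv k eι r) = algebraMap P.toExtension.Ring B₀ r := by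
  rw [pi0_rename]
  exact (algebraMap_toExtension P r).symm

variable (Φ : (Fin m →₀ MvPolynomial (Fin n) k) → B₀)

/-- A function on relations linear over the polynomial ring, killing the trivial ones. -/
structure IsRelFun : Prop where
  add : ∀ q q', Finsupp.linearCombination _ (gens P eι eσ) q = 0 →
    Finsupp.linearCombination _ (gens P eι eσ) q' = 0 → Φ (q + q') = Φ q + Φ q'
  smul : ∀ (r : MvPolynomial (Fin n) k) q, Finsupp.linearCombination _ (gens P eι eσ) q = 0 →
    Φ (r • q) = pi0 P eι r * Φ q
  triv : ∀ q ∈ trivR (gens P eι eσ), Finsupp.linearCombination _ (gens P eι eσ) q = 0 → Φ q = 0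

variable {Φ}

theorem lc_back_relKer (x : relKer P) :
    Finsupp.linearCombination _ (gens P eι eσ) (back P eι eσ (x : relMod P)) = 0 := by
  rw [lc_back, show jmap P (x : relMod P) = 0 from x.2]
  exact map_zero (MvPolynomial.renameEquiv k eι)

/-- The function on the relation module. -/
def relFun (hΦ : IsRelFun P eι eσ Φ) : relKer P →ₗ[P.toExtension.Ring] B₀ where
  toFun x := Φ (back P eι eσ (x : relMod P))
  map_add' x y := by
    rw [Submodule.coe_add, map_add]
    exact hΦ.add _ _ (lc_back_relKer P eι eσ x) (lc_back_relKer P eι eσ y)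
  map_smul' r x := by
    show Φ (back P eι eσ (r • (x : relMod P))) = r • Φ _
    rw [back_smul, hΦ.smul _ _ (lc_back_relKer P eι eσ x), aeval_eq, ← Algebra.smul_def]

theorem relFun_vanish (hΦ : IsRelFun P eι eσ Φ) :
    LinearMap.range ((trivRelKer P).subtype.baseChange B₀) ≤
      LinearMap.ker (LinearMap.liftBaseChange B₀ (relFun P eι eσ hΦ)) := by
  rintro _ ⟨z, rfl⟩
  rw [LinearMap.mem_ker]
  induction z using TensorProduct.induction_on with
  | zero => simp only [map_zero]
  | tmul b x =>
    rw [LinearMap.baseChange_tmul, LinearMap.liftBaseChange_tmul]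
    have h1 : ∀ y ∈ trivRel P, back P eι eσ y ∈ trivR (gens P eι eσ) := by
      intro y hy
      induction hy using Submodule.span_induction with
      | mem y hy =>
        obtain ⟨a, b, rfl⟩ := hy
        refine Submodule.subset_span ⟨back P eι eσ a, back P eι eσ b, ?_⟩
        rw [map_sub, back_smul, back_smul, lc_back, lc_back]
      | zero => rw [map_zero]; exact zero_mem _
      | add y z _ _ hy hz => rw [map_add]; exact add_mem hy hz
      | smul r y _ hy => rw [back_smul]; exact Submodule.smul_mem _ _ hy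
    rw [show relFun P eι eσ hΦ ((trivRelKer P).subtype x) = 0 from
      hΦ.triv _ (h1 _ x.2) (lc_back_relKer P eι eσ _), smul_zero]
  | add x y hx hy => rw [map_add, map_add, hx, hy, add_zero]

/-- The map on `L₂`. -/
def chi (hΦ : IsRelFun P eι eσ Φ) : L2 P →ₗ[B₀] B₀ :=
  Submodule.liftQ _ (LinearMap.liftBaseChange B₀ (relFun P eι eσ hΦ)) (relFun_vanish P eι eσ hΦ)

theorem chi_mk (hΦ : IsRelFun P eι eσ Φ) (b : B₀) (x : relKer P) :
    chi P eι eσ hΦ (Submodule.Quotient.mk (b ⊗ₜ x)) = b * Φ (back P eι eσ (x : relMod P)) := by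
  rw [chi]
  erw [Submodule.liftQ_apply]
  rw [LinearMap.liftBaseChange_tmul, smul_eq_mul]
  rfl

theorem exists_rel_of_toT2_eq_zero (hΦ : IsRelFun P eι eσ Φ) (h0 : toT2 P B₀ (chi P eι eσ hΦ) = 0) :
    ∃ h : Fin m → B₀, ∀ q, Finsupp.linearCombination _ (gens P eι eσ) q = 0 →
      Φ q = ∑ i, pi0 P eι (q i) * h i := by
  classical
  obtain ⟨ψ, hψ⟩ : chi P eι eσ hΦ ∈ LinearMap.range (d2Star P B₀) := (Submodule.Quotient.mk_eq_zero _).1 h0
  refine ⟨fun i => ψ ((1 : B₀) ⊗ₜ Finsupp.single (eσ.symm i) 1), fun q hq => ?_⟩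
  obtain ⟨x, rfl⟩ := (back P eι eσ).surjective q
  have hx : x ∈ relKer P := by
    rw [lc_back] at hq
    exact (MvPolynomial.renameEquiv k eι).injective (hq.trans (map_zero _).symm)
  have h1 := LinearMap.congr_fun hψ (Submodule.Quotient.mk ((1 : B₀) ⊗ₜ (⟨x, hx⟩ : relKer P)))
  rw [d2Star_apply, LinearMap.comp_apply, d2_mk_tmul, chi_mk, one_mul] at h1
  rw [← h1]
  clear h1 hq
  show ψ ((1 : B₀) ⊗ₜ x) = _
  have h3 : ∀ i, pi0 P eι (back P eι eσ x i) = algebraMap P.toExtension.Ring B₀ (x (eσ.symm i)) :=
    fun i => by rw [back_apply, aeval_eq]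
  simp only [h3]
  haveI : Fintype σ := Fintype.ofEquiv _ eσ.symm
  rw [Equiv.sum_comp eσ.symm
    (fun s => algebraMap P.toExtension.Ring B₀ (x s) * ψ ((1 : B₀) ⊗ₜ Finsupp.single s 1))]
  conv_lhs => rw [← Finsupp.univ_sum_single x, tmul_sum, map_sum]
  refine Finset.sum_congr rfl fun s _ => ?_
  rw [show Finsupp.single s (x s) = (x s) • Finsupp.single s (1 : P.toExtension.Ring) by simp,
    tmul_smul, LinearMap.map_smul_of_tower, Algebra.smul_def]

end Groth.Agent.ObsAffLib
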