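import Mathlib
import Groth.Agent.DefSchLib.SmoothObs
import Groth.Agent.ObsAffLib.Gam

/-! Equations of a deformation of an affine scheme over a semismall extension and their obstruction functions. -/

set_option autoImplicit false

noncomputable section

universe u

open CategoryTheory AlgebraicGeometry IsLocalRing

namespace Groth.Agent.ObsAffLib

open ArtFun ArtFun.Art CotTLib DefSchLib

variable {k : Type u} [Field k] {B₀ : Type u} [CommRing B₀] [Algebra k B₀] {n m : ℕ}

theorem exists_eqns {A' A : Art k k} (μ : A' ⟶ A) (hμ : Function.Surjective μ)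
    (π₀ : MvPolynomial (Fin n) k →ₐ[k] B₀) (hπ₀ : Function.Surjective π₀)
    (f : Fin m → MvPolynomial (Fin n) k) (hf : Ideal.span (Set.range f) = RingHom.ker π₀) (D : RingDef B₀ A) :
    ∃ x : Fin n → D.R, (∀ j, D.π (x j) = π₀ (MvPolynomial.X j)) ∧
      ∃ F : Fin m → MvPolynomial (Fin n) A', (∀ i, MvPolynomial.map (A'.res : A' →+* k) (F i) = f i) ∧
        ∀ i, MvPolynomial.eval₂Hom (D.str.comp μ.toAlgHom.toRingHom) x (F i) = 0 := by
  classical
  choose x hx using fun j => D.π_surjective (π₀ (MvPolynomial.X j))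
  let P := MvPolynomial (Fin n) A'
  let ρ : P →+* MvPolynomial (Fin n) k := MvPolynomial.map (A'.res : A' →+* k)
  have hρ : Function.Surjective ρ := MvPolynomial.map_surjective _ A'.res_surjective
  let π : P →+* B₀ := π₀.toRingHom.comp ρ
  let ev : P →+* D.R := MvPolynomial.eval₂Hom (D.str.comp μ.toAlgHom.toRingHom) x
  have hevC : ∀ a, ev (MvPolynomial.C a) = D.str (μ a) := fun a => MvPolynomial.eval₂Hom_C _ _ a
  have hπev : ∀ p, D.π (ev p) = π p := by
    have h : D.π.comp ev = π := MvPolynomial.ringHom_ext (fun a => by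
        show D.π (ev (MvPolynomial.C a)) = π₀ (ρ (MvPolynomial.C a))
        rw [hevC, D.π_str, MvPolynomial.map_C]
        exact (congrArg _ (res_app μ a)).trans (π₀.commutes (A'.res a)).symm) (fun j => by
        show D.π (ev (MvPolynomial.X j)) = π₀ (ρ (MvPolynomial.X j))
        rw [MvPolynomial.eval₂Hom_X', hx, MvPolynomial.map_X])
    exact fun p => RingHom.congr_fun h p
  have hπF : ∀ z : P, π z = 0 → ∃ z', ρ z' = ρ z ∧ ev z' = 0 := by
    intro z hz
    letI := D.str.toAlgebra
    have h1 : ev z ∈ (maximalIdeal A • ⊤ : Submodule A D.R) := RingDef.mem_of_π_eq_zero D (by rw [hπev]; exact hz)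
    suffices h : ∀ w ∈ (maximalIdeal A • ⊤ : Submodule A D.R), w ∈ Set.range ev → ∃ z₁, ρ z₁ = 0 ∧ ev z₁ = w by
      obtain ⟨z₁, hz₁, hz₁'⟩ := h _ h1 ⟨z, rfl⟩
      exact ⟨z - z₁, by rw [map_sub, hz₁, sub_zero], by rw [map_sub, hz₁', sub_self]⟩
    have hsurj : Function.Surjective ev := by
      let N : Submodule A D.R :=
        { carrier := Set.range ev
          zero_mem' := ⟨0, map_zero _⟩
          add_mem' := fun {a b} ⟨p, hp⟩ ⟨q, hq⟩ => ⟨p + q, by rw [map_add, hp, hq]⟩
          smul_mem' := fun a r ⟨q, hq⟩ => by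
            obtain ⟨a', rfl⟩ := hμ a
            exact ⟨MvPolynomial.C a' * q, by rw [map_mul, hevC, hq]; rfl⟩ }
      have hN : N = ⊤ := eq_top_of_sup_smul_eq_top (maximalIdeal_isNilpotent A) (top_le_iff.mp fun r _ => by
        obtain ⟨v, hv⟩ := hπ₀ (D.π r)
        obtain ⟨q, rfl⟩ := hρ v
        rw [← sub_add_cancel r (ev q), add_comm]
        exact Submodule.add_mem_sup ⟨q, rfl⟩ (RingDef.mem_of_π_eq_zero D (by
          rw [map_sub, hπev]
          exact sub_eq_zero.mpr hv.symm)))
      exact fun r => (hN ▸ Submodule.mem_top : r ∈ N)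
    intro w hw _
    induction hw using Submodule.smul_induction_on' with
    | smul a ha r _ =>
      obtain ⟨a', rfl⟩ := hμ a
      obtain ⟨q, rfl⟩ := hsurj r
      refine ⟨MvPolynomial.C a' * q, ?_, by rw [map_mul, hevC]; rfl⟩
      rw [map_mul, MvPolynomial.map_C]
      have : A'.res a' = 0 := by rw [← res_app μ a']; exact (A.mem_maximalIdeal_iff _).mp ha
      rw [show (A'.res : A' →+* k) a' = 0 from this, map_zero, zero_mul]
    | add v hv w hw ihv ihw =>
      obtain ⟨z₁, h1, h1'⟩ := ihv (hsurj v)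
      obtain ⟨z₂, h2, h2'⟩ := ihw (hsurj w)
      exact ⟨z₁ + z₂, by rw [map_add, h1, h2, add_zero], by rw [map_add, h1', h2']⟩
  have hfker : ∀ i, π₀ (f i) = 0 := fun i => (le_of_eq hf) (Ideal.subset_span ⟨i, rfl⟩)
  choose F₀ hF₀ using fun i => hρ (f i)
  choose F hF₁ hF₂ using fun i => hπF (F₀ i) (by show π₀ (ρ (F₀ i)) = 0; rw [hF₀, hfker])
  exact ⟨x, hx, F, fun i => (hF₁ i).trans (hF₀ i), hF₂⟩

theorem exists_obFun {A' A : Art k k} (μ : A' ⟶ A) (hμ : IsSemismallExt μ)
    (π₀ : MvPolynomial (Fin n) k →ₐ[k] B₀) (hπ₀ : Function.Surjective π₀)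
    (f : Fin m → MvPolynomial (Fin n) k) (hf : Ideal.span (Set.range f) = RingHom.ker π₀) (D : RingDef B₀ A)
    (x : Fin n → D.R) (hx : ∀ j, D.π (x j) = π₀ (MvPolynomial.X j))
    (F : Fin m → MvPolynomial (Fin n) A') (hF : ∀ i, MvPolynomial.map (A'.res : A' →+* k) (F i) = f i)
    (hF₂ : ∀ i, MvPolynomial.eval₂Hom (D.str.comp μ.toAlgHom.toRingHom) x (F i) = 0) :
    (∀ q : Fin m →₀ MvPolynomial (Fin n) k, Finsupp.linearCombination _ f q = 0 →
      ∃ S : Fin m → MvPolynomial (Fin n) A', (∀ i, MvPolynomial.map (A'.res : A' →+* k) (S i) = q i) ∧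
        ∑ i, S i * F i ∈ kerPoly μ n) ∧
    ∀ (L : Module.Dual k A') (M : Fin m → MvPolynomial (Fin n) A'),
      (∀ i, MvPolynomial.map (A'.res : A' →+* k) (M i) = 0) → ∑ i, M i * F i ∈ kerPoly μ n →
        π₀ (gam L (∑ i, M i * F i)) = 0 := by
  classical
  let P := MvPolynomial (Fin n) A'
  let ρ : P →+* MvPolynomial (Fin n) k := MvPolynomial.map (A'.res : A' →+* k)
  have hρ : Function.Surjective ρ := MvPolynomial.map_surjective _ A'.res_surjective
  let π : P →+* B₀ := π₀.toRingHom.comp ρ
  let ev : P →+* D.R := MvPolynomial.eval₂Hom (D.str.comp μ.toAlgHom.toRingHom) x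
  have hevC : ∀ a, ev (MvPolynomial.C a) = D.str (μ a) := fun a => MvPolynomial.eval₂Hom_C _ _ a
  have hπev : ∀ p, D.π (ev p) = π p := by
    have h : D.π.comp ev = π := MvPolynomial.ringHom_ext (fun a => by
        show D.π (ev (MvPolynomial.C a)) = π₀ (ρ (MvPolynomial.C a))
        rw [hevC, D.π_str, MvPolynomial.map_C]
        exact (congrArg _ (res_app μ a)).trans (π₀.commutes (A'.res a)).symm) (fun j => by
        show D.π (ev (MvPolynomial.X j)) = π₀ (ρ (MvPolynomial.X j))
        rw [MvPolynomial.eval₂Hom_X', hx, MvPolynomial.map_X])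
    exact fun p => RingHom.congr_fun h p
  let b := Module.Basis.ofVectorSpace k B₀
  choose u hu using fun i => hπ₀ (b i)
  choose p hp using fun i => hρ (u i)
  let I₀ := (RingHom.ker π₀).restrictScalars k
  let g := Module.Basis.ofVectorSpace k I₀
  have hgf : ∀ l, ∃ e : Fin m →₀ MvPolynomial (Fin n) k, Finsupp.linearCombination _ f e = (g l : MvPolynomial (Fin n) k) := by
    intro l
    rw [← LinearMap.mem_range, Finsupp.range_linearCombination]
    exact (le_of_eq hf.symm) (g l).2
  choose e he using hgf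
  have hfker : ∀ i, π₀ (f i) = 0 := fun i => (le_of_eq hf) (Ideal.subset_span ⟨i, rfl⟩)
  choose E hE using fun (l : Module.Basis.ofVectorSpaceIndex k I₀) (i : Fin m) => hρ (e l i)
  let G : _ → P := fun l => ∑ i, E l i * F i
  have hG : ∀ l, ρ (G l) = (g l : MvPolynomial (Fin n) k) := fun l => by
    rw [← he l, map_sum, Finsupp.linearCombination_apply, Finsupp.sum_fintype _ _ (by simp)]
    exact Finset.sum_congr rfl fun i _ => by rw [map_mul, hE, hF, smul_eq_mul]
  have hGev : ∀ l, ev (G l) = 0 := fun l => by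
    rw [map_sum]
    exact Finset.sum_eq_zero fun i _ => by rw [map_mul, hF₂, mul_zero]
  -- combined basis of the polynomial ring over `A'`
  let v₀ : (Module.Basis.ofVectorSpaceIndex k B₀) ⊕ (Module.Basis.ofVectorSpaceIndex k I₀) → MvPolynomial (Fin n) k :=
    Sum.elim u (fun l => (g l : MvPolynomial (Fin n) k))
  have hv₀li : LinearIndependent k v₀ := by
    rw [linearIndependent_iff]
    intro c hc
    obtain ⟨c₁, c₂, rfl⟩ : ∃ c₁ c₂, c = Finsupp.sumElim c₁ c₂ :=
      ⟨_, _, ((Finsupp.sumFinsuppEquivProdFinsupp).symm_apply_apply c).symm⟩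
    rw [lc_sumElim, Finsupp.linearCombination_apply, Finsupp.linearCombination_apply] at hc
    · have h1 : π₀ (c₁.sum fun i a => a • u i) + π₀ (c₂.sum fun l a => a • (g l : MvPolynomial (Fin n) k)) = 0 := by
        rw [← map_add]
        exact (congrArg π₀ hc).trans (map_zero _)
      rw [map_finsuppSum, map_finsuppSum] at h1
      have h2 : (c₂.sum fun l a => π₀ (a • (g l : MvPolynomial (Fin n) k))) = 0 := Finset.sum_eq_zero fun l _ => by
        show π₀ _ = 0
        rw [map_smul, show π₀ (g l : MvPolynomial (Fin n) k) = 0 from (g l).2, smul_zero]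
      rw [h2, add_zero] at h1
      simp only [map_smul, hu] at h1
      have hc₁ : c₁ = 0 := linearIndependent_iff.mp b.linearIndependent c₁ h1
      subst hc₁
      rw [Finsupp.sum_zero_index, zero_add] at hc
      have hc₂ : c₂ = 0 := linearIndependent_iff.mp g.linearIndependent c₂ (Subtype.ext (by
        rw [Finsupp.linearCombination_apply]
        simp only [Finsupp.sum, AddSubmonoidClass.coe_finsetSum, SetLike.val_smul]
        exact hc))
      subst hc₂
      ext (i | i) <;> rfl
  have hv₀sp : ⊤ ≤ Submodule.span k (Set.range v₀) := fun z _ => by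
    let c := b.repr (π₀ z)
    have h1 : z - c.sum (fun i a => a • u i) ∈ I₀ := by
      show π₀ _ = 0
      rw [map_sub, map_finsuppSum, sub_eq_zero]
      simp only [map_smul, hu]
      exact (b.linearCombination_repr (π₀ z)).symm
    rw [← sub_add_cancel z (c.sum fun i a => a • u i)]
    refine add_mem ?_ (Submodule.sum_mem _ fun i _ => Submodule.smul_mem _ _ (Submodule.subset_span ⟨.inl i, rfl⟩))
    have h2 : (⟨_, h1⟩ : I₀) ∈ Submodule.span k (Set.range g) := g.span_eq ▸ Submodule.mem_top
    have h3 := Submodule.mem_map_of_mem (f := I₀.subtype) h2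
    rw [Submodule.map_span] at h3
    refine Submodule.span_mono ?_ h3
    rintro _ ⟨_, ⟨l, rfl⟩, rfl⟩
    exact ⟨.inr l, rfl⟩
  let b₀ : Module.Basis _ k (MvPolynomial (Fin n) k) := Module.Basis.mk hv₀li hv₀sp
  let V : (Module.Basis.ofVectorSpaceIndex k B₀) ⊕ (Module.Basis.ofVectorSpaceIndex k I₀) → P := Sum.elim p G
  have hV : ∀ s, ρ (V s) = b₀ s := by
    rintro (i | l)
    · rw [Module.Basis.mk_apply]; exact hp i
    · rw [Module.Basis.mk_apply]; exact hG l
  -- decomposition of polynomials
  have hsmul : ∀ (a : A') (z : P), a • z = MvPolynomial.C a * z := fun a z => MvPolynomial.smul_eq_C_mul z a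
  have hVindep : LinearIndependent A' V := (poly_lift_basis A' b₀ V hV).1
  have hdec : ∀ z : P, ∃ (a : _ →₀ A') (c : _ →₀ A'),
      z = Finsupp.linearCombination A' p a + Finsupp.linearCombination A' G c := by
    intro z
    obtain ⟨c, hc⟩ := (poly_lift_basis A' b₀ V hV).2 z
    obtain ⟨c₁, c₂, rfl⟩ : ∃ c₁ c₂, c = Finsupp.sumElim c₁ c₂ :=
      ⟨_, _, ((Finsupp.sumFinsuppEquivProdFinsupp).symm_apply_apply c).symm⟩
    rw [lc_sumElim] at hc
    exact ⟨c₁, c₂, hc.symm⟩
  have huniq : ∀ (a : _ →₀ A') (c : _ →₀ A'),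
      Finsupp.linearCombination A' p a + Finsupp.linearCombination A' G c = 0 → a = 0 ∧ c = 0 := by
    intro a c h
    have h1 : Finsupp.sumElim a c = 0 := linearIndependent_iff.mp hVindep _ (by
      rw [lc_sumElim]
      exact h)
    exact ⟨Finsupp.ext fun i => DFunLike.congr_fun h1 (Sum.inl i), Finsupp.ext fun i => DFunLike.congr_fun h1 (Sum.inr i)⟩
  have hlc : ∀ q : Fin m →₀ MvPolynomial (Fin n) k, Finsupp.linearCombination _ f q = ∑ i, q i * f i := fun q => by
    rw [Finsupp.linearCombination_apply, Finsupp.sum_fintype _ _ (by simp)]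
    rfl
  have hIz : ∀ z, ev z = 0 → ∃ c : _ →₀ A', z - Finsupp.linearCombination A' G c ∈ kerPoly μ n := by
    intro z hz
    obtain ⟨a, c, rfl⟩ := hdec z
    letI := D.str.toAlgebra
    have hli := D.linearIndependent_lift b (fun i => ev (p i)) fun i => by
      rw [hπev]; show π₀ (ρ (p i)) = b i; rw [hp, hu]
    rw [map_add, Finsupp.linearCombination_apply, Finsupp.linearCombination_apply, map_finsuppSum, map_finsuppSum] at hz
    simp only [hsmul, map_mul, hevC, hGev, mul_zero, Finsupp.sum, Finset.sum_const_zero, add_zero] at hz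
    refine ⟨c, ?_⟩
    rw [add_sub_cancel_right, Finsupp.linearCombination_apply]
    refine Ideal.sum_mem _ fun i hi => ?_
    show a i • p i ∈ _
    rw [hsmul]
    exact Ideal.mul_mem_right _ _ (Ideal.mem_map_of_mem _
      (RingHom.mem_ker.mpr (linearIndependent_iff'.mp hli a.support (fun i => μ (a i)) hz i hi)))
  refine ⟨fun q hq => ?_, fun L M hM hMF => ?_⟩
  · choose S hS using fun i => hρ (q i)
    have h0 : ρ (∑ i, S i * F i) = 0 := by
      rw [map_sum, ← hq, hlc]
      exact Finset.sum_congr rfl fun i _ => by rw [map_mul, hS, hF]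
    obtain ⟨c, hcw⟩ := hIz (∑ i, S i * F i) (by
      rw [map_sum]; exact Finset.sum_eq_zero fun i _ => by rw [map_mul, hF₂, mul_zero])
    have hker : ∀ z ∈ kerPoly μ n, ρ z = 0 := fun z hz => by
      rw [← RingHom.mem_ker, MvPolynomial.ker_map]
      exact Ideal.map_mono ((ArtFunLib.ker_le_maximalIdeal μ).trans (RingDef.ker_res A').ge) hz
    have h1 : ρ (Finsupp.linearCombination A' G c) = 0 := by
      have h2 := hker _ hcw
      rw [map_sub, h0, zero_sub, neg_eq_zero] at h2
      exact h2
    have hc : ∀ l, ρ (MvPolynomial.C (c l)) = 0 := by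
      intro l
      have h2 : ∑ l ∈ c.support, A'.res (c l) • (g l) = 0 := Subtype.ext (by
        rw [Finsupp.linearCombination_apply, map_finsuppSum] at h1
        simp only [AddSubmonoidClass.coe_finsetSum, SetLike.val_smul, ZeroMemClass.coe_zero]
        refine Eq.trans (Finset.sum_congr rfl fun j _ => ?_) h1
        show _ = ρ (c j • G j)
        rw [hsmul, map_mul, MvPolynomial.map_C, hG, MvPolynomial.smul_eq_C_mul]
        rfl)
      rw [MvPolynomial.map_C]
      by_cases hl : l ∈ c.support
      · rw [show (A'.res : A' →+* k) (c l) = 0 from linearIndependent_iff'.mp g.linearIndependent _ _ h2 l hl, map_zero]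
      · rw [Finsupp.notMem_support_iff.mp hl, map_zero, map_zero]
    refine ⟨fun i => S i - ∑ l ∈ c.support, MvPolynomial.C (c l) * E l i, fun i => ?_, ?_⟩
    · rw [map_sub, map_sum]
      rw [show ρ (S i) = q i from hS i, Finset.sum_eq_zero fun l _ => ?_, sub_zero]
      rw [map_mul]
      exact mul_eq_zero_of_left (hc l) _
    · convert hcw using 1
      simp only [sub_mul, Finset.sum_sub_distrib, Finset.sum_mul, mul_assoc]
      rw [Finset.sum_comm, Finsupp.linearCombination_apply, Finsupp.sum]
      simp only [← Finset.mul_sum, hsmul, G]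
  · have hin : ∀ i, ∀ z ∈ (maximalIdeal A').map (MvPolynomial.C : A' →+* P), ∀ y : P,
        y * z * F i ∈ Submodule.span A' (Set.range G) := by
      intro i z hz
      induction hz using Submodule.span_induction with
      | mem z hz =>
        obtain ⟨a, ha, rfl⟩ := hz
        intro y
        obtain ⟨c, hc⟩ := hIz (y * F i) (by rw [map_mul, hF₂, mul_zero])
        have h2 := mul_eq_zero_of_kerPoly hμ hc ha
        rw [mul_sub, sub_eq_zero] at h2
        rw [mul_right_comm, mul_comm, h2, ← hsmul]
        exact Submodule.smul_mem _ _ ((Finsupp.range_linearCombination (R := A') (v := G)).le ⟨c, rfl⟩)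
      | zero => intro y; rw [mul_zero, zero_mul]; exact zero_mem _
      | add z z' _ _ h h' => intro y; rw [mul_add, add_mul]; exact add_mem (h y) (h' y)
      | smul r z _ h => intro y; rw [smul_eq_mul, ← mul_assoc]; exact h _
    have h1 : ∑ i, M i * F i ∈ Submodule.span A' (Set.range G) := by
      refine Submodule.sum_mem _ fun i _ => ?_
      have h2 := hin i (M i) (by rw [← RingDef.ker_res, ← MvPolynomial.ker_map]; exact hM i) 1
      rwa [one_mul] at h2
    rw [← Finsupp.range_linearCombination] at h1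
    obtain ⟨c, hc⟩ := h1
    rw [← hc] at hMF ⊢
    have hcJ : ∀ l ∈ c.support, μ (c l) = 0 := by
      have hVA := (poly_lift_basis A b₀ (fun s => MvPolynomial.map μ.toAlgHom.toRingHom (V s)) fun s => by
        rw [MvPolynomial.map_map, ← hV s]
        exact congrArg (fun r : A' →+* k => MvPolynomial.map r (V s))
          (congrArg AlgHom.toRingHom μ.res_comp)).1
      rw [mem_kerPoly_iff, Finsupp.linearCombination_apply, map_finsuppSum] at hMF
      intro l hl
      refine linearIndependent_iff'.mp (hVA.comp Sum.inr Sum.inr_injective) c.support (fun l => μ (c l)) ?_ l hl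
      refine Eq.trans (Finset.sum_congr rfl fun j _ => ?_) hMF
      show _ = MvPolynomial.map μ.toAlgHom.toRingHom (c j • G j)
      rw [hsmul, map_mul, MvPolynomial.map_C, MvPolynomial.smul_eq_C_mul]
      rfl
    rw [Finsupp.linearCombination_apply, Finsupp.sum]
    have key : ∀ s : Finset (Module.Basis.ofVectorSpaceIndex k I₀), s ⊆ c.support →
        π₀ (gam L (∑ l ∈ s, c l • G l)) = 0 := by
      intro s
      induction s using Finset.induction_on with
      | empty => intro _; rw [Finset.sum_empty, gam_zero, map_zero]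
      | insert l s hls ih =>
        intro hs
        rw [Finset.sum_insert hls, gam_add, map_add, ih ((Finset.subset_insert _ _).trans hs), add_zero, hsmul,
          gam_C_mul hμ L (hcJ l (hs (Finset.mem_insert_self _ _))), map_mul]
        show _ * π₀ (ρ (G l)) = 0
        rw [hG, show π₀ (g l : MvPolynomial (Fin n) k) = 0 from (g l).2, mul_zero]
    exact key _ subset_rfl

end Groth.Agent.ObsAffLib
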