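import Groth.Agent.ObsAffLib.Lift
import Groth.Agent.ObsAffLib.Rel
import Groth.Agent.ObsAffLib.PresT2
import Groth.Agent.ObsBoundLib.Bound

/-! Deformations of an affine scheme have obstructions in `T²`, linearly. -/

set_option autoImplicit false
set_option backward.isDefEq.respectTransparency false
set_option backward.isDefEq.respectTransparency.types false
set_option linter.style.haveILetI false

noncomputable section

universe u

open CategoryTheory AlgebraicGeometry IsLocalRing CotT

namespace Groth.Agent.ObsAffLib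

open ArtFun ArtFun.Art DefSchLib ObsBoundLib CotTLib

variable {k : Type u} [Field k] {B₀ : Type u} [CommRing B₀] [Algebra k B₀]

theorem exists_contr {B B' : Art k k} {A : Art k k} {q : B ⟶ A} (hq : IsSemismallExt q) (π : B ⟶ B') (t : B')
    (L : Module.Dual k B) (hπ : ∀ j : B, q j = 0 → π j = L j • t) {n : ℕ} {z : MvPolynomial (Fin n) B}
    (hz : z ∈ kerPoly q n) :
    ∃ w : MvPolynomial (Fin n) B', MvPolynomial.map π.toAlgHom.toRingHom z = MvPolynomial.C t * w ∧
      MvPolynomial.map (B'.res : B' →+* k) w = gam L z := by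
  induction hz using Submodule.span_induction with
  | mem z hz =>
    obtain ⟨j, hj, rfl⟩ := hz
    refine ⟨MvPolynomial.C (algebraMap k B' (L j)), ?_, ?_⟩
    · rw [MvPolynomial.map_C, ← map_mul]
      congr 1
      rw [mul_comm, ← Algebra.smul_def]
      exact hπ j hj
    · rw [← mul_one (MvPolynomial.C j), gam_C_mul hq L hj, MvPolynomial.map_C, map_one, mul_one]
      exact congrArg MvPolynomial.C (B'.res.commutes (L j))
  | zero => exact ⟨0, by rw [map_zero, mul_zero], by rw [map_zero, gam_zero]⟩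
  | add a b _ _ ha hb =>
    obtain ⟨v, hv, hv'⟩ := ha
    obtain ⟨w, hw, hw'⟩ := hb
    exact ⟨v + w, by rw [map_add, hv, hw, mul_add], by rw [map_add, hv', hw', gam_add]⟩
  | smul r z hz0 hz =>
    obtain ⟨w, hw, hw'⟩ := hz
    refine ⟨MvPolynomial.map π.toAlgHom.toRingHom r * w, by rw [smul_eq_mul, map_mul, hw, mul_left_comm], ?_⟩
    rw [smul_eq_mul, gam_mul hq L hz0, map_mul, hw', MvPolynomial.map_map]
    congr 1
    exact congrArg (fun g : B →+* k => MvPolynomial.map g r) (congrArg AlgHom.toRingHom π.res_comp)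

theorem hasObs {ι σ : Type u} [Finite ι] [Finite σ] (P : Algebra.Presentation k B₀ ι σ) :
    HasObs (defFunctor (Λ := k) (Spec (CommRingCat.of B₀)) (base0 B₀)) (CotT.T2 P B₀) := by
  classical
  obtain ⟨n, ⟨eι⟩⟩ := Finite.exists_equiv_fin ι
  obtain ⟨m, ⟨eσ⟩⟩ := Finite.exists_equiv_fin σ
  intro B A q hq s
  obtain ⟨D, rfl⟩ := exists_cl_eq s
  let π₀ := pi0 P eι
  let f := gens P eι eσ
  have hπ₀ : Function.Surjective π₀ := pi0_surjective P eι
  have hf : Ideal.span (Set.range f) = RingHom.ker π₀ := span_gens P eι eσ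
  obtain ⟨x, hx, F, hF, hF₂⟩ := exists_eqns q hq.1 π₀ hπ₀ f hf D
  obtain ⟨hS, hM⟩ := exists_obFun q hq π₀ hπ₀ f hf D x hx F hF hF₂
  obtain ⟨proj, hproj⟩ := (kerQ q).subtype.exists_leftInverse_of_injective (kerQ q).ker_subtype
  choose S hS₁ hS₂ using hS
  let Φ : Module.Dual k (kerQ q) → (Fin m →₀ MvPolynomial (Fin n) k) → B₀ := fun l r =>
    if h : Finsupp.linearCombination _ f r = 0 then π₀ (gam (l ∘ₗ proj) (∑ i, S r h i * F i)) else 0
  have hval : ∀ l r, Finsupp.linearCombination _ f r = 0 → ∀ S' : Fin m → MvPolynomial (Fin n) B,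
      (∀ i, MvPolynomial.map (B.res : B →+* k) (S' i) = r i) → ∑ i, S' i * F i ∈ kerPoly q n →
        Φ l r = π₀ (gam (l ∘ₗ proj) (∑ i, S' i * F i)) := by
    intro l r h S' h1 h2
    simp only [Φ, dif_pos h]
    have e : ∑ i, (S r h i - S' i) * F i = ∑ i, S r h i * F i - ∑ i, S' i * F i := by
      simp only [sub_mul, Finset.sum_sub_distrib]
    have h3 := hM (l ∘ₗ proj) (fun i => S r h i - S' i) (fun i => by rw [map_sub, hS₁, h1, sub_self])
      (e ▸ sub_mem (hS₂ r h) h2)
    rwa [e, gam_sub, map_sub, sub_eq_zero] at h3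
  have hlc : ∀ q : Fin m →₀ MvPolynomial (Fin n) k, Finsupp.linearCombination _ f q = ∑ i, q i * f i := fun q => by
    rw [Finsupp.linearCombination_apply, Finsupp.sum_fintype _ _ (by simp)]
    rfl
  have htriv : ∀ r ∈ trivR f, ∃ S' : Fin m → MvPolynomial (Fin n) B,
      (∀ i, MvPolynomial.map (B.res : B →+* k) (S' i) = r i) ∧ ∑ i, S' i * F i = 0 := by
    intro r hr
    induction hr using Submodule.span_induction with
    | mem y hy =>
      obtain ⟨q₁, q₂, rfl⟩ := hy
      choose S₁ hS₁ using fun i => MvPolynomial.map_surjective (B.res : B →+* k) B.res_surjective (q₁ i)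
      choose S₂ hS₂ using fun i => MvPolynomial.map_surjective (B.res : B →+* k) B.res_surjective (q₂ i)
      refine ⟨fun i => (∑ j, S₁ j * F j) * S₂ i - (∑ j, S₂ j * F j) * S₁ i, fun i => ?_, ?_⟩
      · rw [map_sub, map_mul, map_mul, map_sum, map_sum, hS₁, hS₂, hlc, hlc, Finsupp.sub_apply, Finsupp.smul_apply,
          Finsupp.smul_apply, smul_eq_mul, smul_eq_mul]
        simp only [map_mul, hS₁, hS₂, hF]
      · simp only [sub_mul, Finset.sum_sub_distrib, mul_assoc, ← Finset.mul_sum]
        ring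
    | zero => exact ⟨0, fun i => map_zero _, by simp⟩
    | add y y' _ _ h h' =>
      obtain ⟨S₁, h1, h1'⟩ := h
      obtain ⟨S₂, h2, h2'⟩ := h'
      exact ⟨S₁ + S₂, fun i => by rw [Pi.add_apply, map_add, h1, h2]; rfl, by
        simp only [Pi.add_apply, add_mul, Finset.sum_add_distrib, h1', h2', add_zero]⟩
    | smul c y _ h =>
      obtain ⟨S₁, h1, h1'⟩ := h
      obtain ⟨R', hR'⟩ := MvPolynomial.map_surjective (B.res : B →+* k) B.res_surjective c
      exact ⟨fun i => R' * S₁ i, fun i => by rw [map_mul, h1, hR']; rfl, by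
        simp only [mul_assoc, ← Finset.mul_sum, h1', mul_zero]⟩
  have hΦ : ∀ l, IsRelFun P eι eσ (Φ l) := fun l =>
    { add := fun r r' h h' => by
        have e : ∑ i, (S r h i + S r' h' i) * F i = ∑ i, S r h i * F i + ∑ i, S r' h' i * F i := by
          simp only [add_mul, Finset.sum_add_distrib]
        rw [hval l (r + r') (by rw [map_add, h, h', add_zero]) (fun i => S r h i + S r' h' i)
          (fun i => by rw [map_add, hS₁, hS₁]; rfl) (e ▸ add_mem (hS₂ r h) (hS₂ r' h')),
          hval l r h _ (hS₁ r h) (hS₂ r h), hval l r' h' _ (hS₁ r' h') (hS₂ r' h'), e, gam_add, map_add]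
      smul := fun c r h => by
        obtain ⟨R', hR'⟩ := MvPolynomial.map_surjective (B.res : B →+* k) B.res_surjective c
        have e : ∑ i, R' * S r h i * F i = R' * ∑ i, S r h i * F i := by simp only [Finset.mul_sum, mul_assoc]
        rw [hval l (c • r) (by rw [map_smul, h, smul_zero]) (fun i => R' * S r h i)
          (fun i => by rw [map_mul, hS₁, hR']; rfl) (e ▸ Ideal.mul_mem_left _ _ (hS₂ r h)),
          hval l r h _ (hS₁ r h) (hS₂ r h), e, gam_mul hq _ (hS₂ r h), map_mul, hR']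
      triv := fun r hr h => by
        obtain ⟨S', h1, h2⟩ := htriv r hr
        rw [hval l r h S' h1 (h2 ▸ zero_mem _), h2, gam_zero, map_zero] }
  let ob : Module.Dual k (kerQ q) →ₗ[k] CotT.T2 P B₀ :=
    { toFun := fun l => toT2 P B₀ (chi P eι eσ (hΦ l))
      map_add' := fun l l' => by
        rw [← map_add]
        congr 1
        refine Submodule.linearMap_qext _ (TensorProduct.AlgebraTensorModule.ext fun b y => ?_)
        simp only [LinearMap.comp_apply, Submodule.mkQ_apply, LinearMap.add_apply]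
        have h := lc_back_relKer P eι eσ y
        simp only [chi_mk, ← mul_add, hval _ _ h _ (hS₁ _ h) (hS₂ _ h), LinearMap.add_comp, add_gam, map_add]
      map_smul' := fun c l => by
        show toT2 P B₀ _ = c • toT2 P B₀ _
        rw [← LinearMap.map_smul_of_tower]
        congr 1
        refine Submodule.linearMap_qext _ (TensorProduct.AlgebraTensorModule.ext fun b y => ?_)
        simp only [LinearMap.comp_apply, Submodule.mkQ_apply, LinearMap.smul_apply]
        have h := lc_back_relKer P eι eσ y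
        simp only [chi_mk, hval _ _ h _ (hS₁ _ h) (hS₂ _ h), LinearMap.smul_comp, smul_gam, map_mul]
        rw [Algebra.smul_def, mul_left_comm]
        exact congrArg (· * _) (π₀.commutes c) }
  refine ⟨ob, fun l hl h0 => ?_⟩
  obtain ⟨Q⟩ := nonempty_push q hq hl
  obtain ⟨v, hv⟩ : ∃ v, l v = 1 := by
    obtain ⟨w, hw⟩ : ∃ w, l w ≠ 0 := by
      by_contra h
      push Not at h
      exact hl (LinearMap.ext h)
    exact ⟨(l w)⁻¹ • w, by rw [map_smul, smul_eq_mul, inv_mul_cancel₀ hw]⟩
  have hπs : Function.Surjective Q.π := Q.surj hq v hv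
  have hL : ∀ j : B, q j = 0 → Q.π j = (l ∘ₗ proj) j • Q.e.t := fun j hj => by
    have := Q.apply_ker ⟨j, hj⟩
    rw [show (l ∘ₗ proj) j = l ⟨j, hj⟩ from congrArg l (LinearMap.congr_fun hproj ⟨j, hj⟩)]
    exact this
  have hps : Function.Surjective Q.p := Q.e.surj
  obtain ⟨h, hh⟩ := exists_rel_of_toT2_eq_zero P eι eσ (hΦ l) h0
  obtain ⟨D', ⟨g⟩⟩ := exists_lift_small_of_rel Q.p hps Q.e.t Q.e.ne (fun a ha => Q.e.killed a ha) Q.e.ker π₀ hπ₀ f hf D
    x hx (fun i => MvPolynomial.map Q.π.toAlgHom.toRingHom (F i))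
    (fun i => by
      rw [MvPolynomial.map_map, ← hF i]
      exact congrArg (fun g : B →+* k => MvPolynomial.map g (F i)) (congrArg AlgHom.toRingHom Q.π.res_comp))
    (fun i => by
      rw [MvPolynomial.coe_eval₂Hom, MvPolynomial.eval₂_map]
      have e : (D.str.comp Q.p.toAlgHom.toRingHom).comp Q.π.toAlgHom.toRingHom = D.str.comp q.toAlgHom.toRingHom :=
        RingHom.ext fun b => congrArg D.str (congrArg (fun f : B ⟶ A => f b) Q.comp)
      rw [e]
      exact hF₂ i)
    ⟨h, fun r hr => by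
      obtain ⟨w, hw, hw'⟩ := exists_contr hq Q.π Q.e.t (l ∘ₗ proj) hL (hS₂ r hr)
      refine ⟨fun i => MvPolynomial.map Q.π.toAlgHom.toRingHom (S r hr i), w, fun i => ?_, ?_, ?_⟩
      · rw [MvPolynomial.map_map, ← hS₁ r hr i]
        exact congrArg (fun g : B →+* k => MvPolynomial.map g (S r hr i)) (congrArg AlgHom.toRingHom Q.π.res_comp)
      · rw [← hw, map_sum]
        exact Finset.sum_congr rfl fun i _ => (map_mul _ _ _).symm
      · rw [hw', ← hval l r hr _ (hS₁ r hr) (hS₂ r hr)]
        exact hh r hr⟩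
  refine ⟨Q.obj, Q.π, Q.p, Q.comp, (ArtFunLib.isSmallExt_iff _).mpr ⟨hps, Q.e.t, Q.e.ne, Q.e.killed, Q.e.ker⟩,
    ⟨v, ?_⟩, D'.toSch.cl, g.cl_eq⟩
  rw [Q.apply_ker v, hv, one_smul]
  exact Q.e.ne

end Groth.Agent.ObsAffLib
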