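import Mathlib
import Groth.Agent.DefSchLib.Tangent
import Groth.Agent.CotTLib.Basic

/-! The tangent space of the deformation functor of an affine scheme is `T¹`, linearly. -/

set_option autoImplicit false

noncomputable section

universe u

open CategoryTheory AlgebraicGeometry IsLocalRing

attribute [local instance] Exal.opModule Exal.isCentralScalar_opModule

namespace Groth.Agent.ObsAffLib

open ArtFun ArtFun.Art CotTLib DefSchLib

variable {Λ k : Type u} [CommRing Λ] [Field k] [Algebra Λ k] {B : Type u} [CommRing B] [Algebra k B]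
  {ι σ : Type u} (P : Algebra.Presentation k B ι σ)

local notation "F" => defFunctor (Λ := Λ) (k := k) (Spec (CommRingCat.of B)) (base0 B)

theorem homToT1_eq_of_phiDef_eq {φ φ' : P.toExtension.Cotangent →ₗ[B] B}
    (h : (phiDef P Λ φ).toSch.cl = (phiDef P Λ φ').toSch.cl) :
    CotT.homToT1 P B φ = CotT.homToT1 P B φ' := by
  obtain ⟨e⟩ := Quotient.exact h
  obtain ⟨f, -⟩ := RingDef.exists_iso_of_toSch e
  obtain ⟨g⟩ := DefSchLib.equiv_of_iso f
  obtain ⟨θ, hθ⟩ := lifts_extOf φ
  obtain ⟨θ', hθ'⟩ := lifts_extOf φ'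
  have hθ₁ : Lifts (g.toAlgEquiv.toAlgHom.comp θ) φ :=
    ⟨fun r => (g.proj_apply _).trans (hθ.1 r), fun x => (congrArg g.toAlgEquiv (hθ.2 x)).trans (g.apply_incl _)⟩
  obtain ⟨ψ, hψ⟩ := lifts_sub hθ₁ hθ'
  have h0 : φ' - φ ∈ LinearMap.ker (CotT.homToT1 P B) := by
    rw [CotTLib.ker_homToT1]
    exact ⟨ψ, hψ.symm⟩
  rw [LinearMap.mem_ker, map_sub, sub_eq_zero] at h0
  exact h0.symm

theorem finrank_tangentSpace [T : TangentStr (F)] :
    Module.finrank k (TangentSpace (F)) = Module.finrank k (CotT.T1 P B) := by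
  let L : (P.toExtension.Cotangent →ₗ[B] B) →ₗ[k] TangentSpace (F) :=
    { toFun := fun φ => TangentSpace.mk (phiDef P Λ φ).toSch.cl
      map_add' := fun φ ψ => by
        obtain ⟨z, h1, h2, h3⟩ := exists_plus (Λ := Λ) P φ ψ
        show (phiDef P Λ (φ + ψ)).toSch.cl = _
        rw [← h3, ← h1, ← h2]
        exact (T.add_eq z).symm
      map_smul' := fun c φ => by
        show (phiDef P Λ (c • φ)).toSch.cl = _
        rw [← map_scale]
        exact (T.smul_eq c _).symm }
  let M : (P.toExtension.Cotangent →ₗ[B] B) →ₗ[k] CotT.T1 P B := (CotT.homToT1 P B).restrictScalars k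
  have hL : Function.Surjective L := fun z => by
    obtain ⟨φ, hφ⟩ := phiDef_surjective (Λ := Λ) P z
    exact ⟨φ, hφ⟩
  have hker : LinearMap.ker L = LinearMap.ker M := by
    ext φ
    rw [LinearMap.mem_ker, LinearMap.mem_ker]
    constructor
    · intro h
      rw [← map_zero L] at h
      exact (homToT1_eq_of_phiDef_eq (Λ := Λ) P h).trans (map_zero _)
    · intro h
      rw [← map_zero L]
      exact phiDef_congr P (h.trans (map_zero (CotT.homToT1 P B)).symm)
  exact ((L.quotKerEquivOfSurjective hL).symm.trans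
    ((Submodule.quotEquivOfEq _ _ hker).trans (M.quotKerEquivOfSurjective (CotTLib.homToT1_surjective P B)))).finrank_eq

end Groth.Agent.ObsAffLib
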